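import Mathlib.RingTheory.Etale.Kaehler
import Mathlib.RingTheory.Localization.BaseChange

/-! The naive cotangent complex of the localization of an extension. -/

universe w u v

open Algebra TensorProduct

namespace Groth.Agent.CotLib

variable {R : Type u} {S : Type v} [CommRing R] [CommRing S] [Algebra R S]
  (P : Extension.{w} R S) (M : Submonoid S) (S' : Type v) [CommRing S'] [Algebra S S']
  [IsLocalization M S'] [Algebra R S'] [IsScalarTower R S S']

noncomputable instance localizationAlgebra : Algebra P.Ring (P.localization M (S' := S')).Ring :=
  (inferInstance : Algebra P.Ring (Localization (M.comap (algebraMap P.Ring S))))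

instance localization_isLocalization :
    IsLocalization (M.comap (algebraMap P.Ring S)) (P.localization M (S' := S')).Ring :=
  (inferInstance : IsLocalization (M.comap (algebraMap P.Ring S))
    (Localization (M.comap (algebraMap P.Ring S))))

/-- The canonical hom from an extension to its localization. -/
noncomputable def toLocalization : P.Hom (P.localization M (S' := S')) where
  toRingHom := algebraMap P.Ring (Localization (M.comap (algebraMap P.Ring S)))
  toRingHom_algebraMap r :=
    (IsScalarTower.algebraMap_apply R P.Ring (Localization (M.comap (algebraMap P.Ring S))) r).symm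
  algebraMap_toRingHom x := IsLocalization.lift_eq (S := Localization (M.comap (algebraMap P.Ring S))) _ x

theorem toLocalization_formallyEtale :
    (toLocalization P M S').toRingHom.FormallyEtale :=
  RingHom.formallyEtale_algebraMap.2
    (inferInstanceAs (FormallyEtale P.Ring (Localization (M.comap (algebraMap P.Ring S)))))

theorem nonempty_tensorCotangent :
    Nonempty (S' ⊗[S] P.Cotangent ≃ₗ[S'] (P.localization M (S' := S')).Cotangent) := by
  let N := M.comap (algebraMap P.Ring S)
  let f := toLocalization P M S'
  haveI hloc : IsLocalizedModule N (f.mapKer rfl) := by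
    refine ⟨fun n => ?_, fun x => ?_, fun {x y} h => ?_⟩
    · rw [Module.End.isUnit_iff]
      obtain ⟨u, hu⟩ := IsLocalization.map_units (P.localization M (S' := S')).Ring n
      have key : ∀ z : (P.localization M (S' := S')).ker,
          (n : P.Ring) • z = (u : (P.localization M (S' := S')).Ring) • z := fun z => by
        rw [hu, algebraMap_smul]
      constructor
      · intro a b hab
        simp only [Module.algebraMap_end_apply, key] at hab
        exact (IsUnit.smul_left_cancel u.isUnit).1 hab
      · intro b
        refine ⟨(↑u⁻¹ : (P.localization M (S' := S')).Ring) • b, ?_⟩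
        simp only [Module.algebraMap_end_apply, key, smul_smul, Units.mul_inv, one_smul]
    · obtain ⟨z, hz⟩ := x
      obtain ⟨⟨p, s⟩, hps⟩ := IsLocalization.surj N z
      have h0 : algebraMap S S' (algebraMap P.Ring S p) = 0 := by
        have := congrArg (algebraMap (P.localization M (S' := S')).Ring S') hps
        rw [map_mul, show algebraMap (P.localization M (S' := S')).Ring S' z = 0 from hz,
          zero_mul] at this
        exact (f.algebraMap_toRingHom p).symm.trans this.symm
      obtain ⟨c, hc⟩ := (IsLocalization.map_eq_zero_iff M S' _).1 h0
      obtain ⟨c', hc'⟩ := P.algebraMap_surjective (c : S)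
      have hc'N : c' ∈ N := by simp [N, hc']
      have hker : c' * p ∈ P.ker := by
        simp [Extension.ker, RingHom.mem_ker, hc', hc]
      refine ⟨(⟨c' * p, hker⟩, ⟨c', hc'N⟩ * s), Subtype.ext ?_⟩
      change ((⟨c', hc'N⟩ * s : N) : P.Ring) • z = algebraMap P.Ring _ (c' * p)
      rw [Algebra.smul_def]
      rw [Submonoid.coe_mul, map_mul, map_mul, mul_assoc, ← hps, mul_comm z]
    · have h' : algebraMap P.Ring (P.localization M (S' := S')).Ring x = algebraMap P.Ring _ y :=
        congrArg Subtype.val h
      obtain ⟨c, hc⟩ := (IsLocalization.eq_iff_exists N _).1 h'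
      exact ⟨c, Subtype.ext hc⟩
  have hb : IsBaseChange (P.localization M (S' := S')).Ring (f.mapKer rfl) :=
    IsLocalizedModule.isBaseChange N _ _
  exact ⟨Extension.tensorCotangent f rfl hb⟩

theorem nonempty_tensorCotangentSpace :
    Nonempty (S' ⊗[S] P.CotangentSpace ≃ₗ[S'] (P.localization M (S' := S')).CotangentSpace) :=
  ⟨Extension.tensorCotangentSpaceOfFormallyEtale (toLocalization P M S')
    (toLocalization_formallyEtale P M S')⟩

theorem formallySmooth_localization_ring [FormallySmooth R P.Ring] :
    FormallySmooth R (P.localization M (S' := S')).Ring :=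
  FormallySmooth.comp R P.Ring (Localization (M.comap (algebraMap P.Ring S)))

end Groth.Agent.CotLib
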