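import Mathlib.RingTheory.Smooth.Kaehler
import Mathlib.RingTheory.Smooth.Basic

/-!
Schanuel's lemma for the naive cotangent complexes of two formally smooth extensions of the same
algebra: `P.Cotangent × Q.CotangentSpace ≃ Q.Cotangent × P.CotangentSpace` (when the cotangent
spaces are projective, here: always, via the homotopy equivalence).
-/

universe w u v

open Algebra TensorProduct

namespace Groth.Agent.CotLib

section complexes

variable {S : Type*} [CommRing S] {M M' F F' : Type*} [AddCommGroup M] [Module S M]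
  [AddCommGroup M'] [Module S M'] [AddCommGroup F] [Module S F] [AddCommGroup F'] [Module S F']

/-- Homotopy equivalent two-term complexes `M → F` and `M' → F'`: then
`M × F' ≅ F × M'`. -/
theorem nonempty_equiv_of_homotopyEquiv (d : M →ₗ[S] F) (d' : M' →ₗ[S] F')
    (f₁ : M →ₗ[S] M') (f₀ : F →ₗ[S] F') (g₁ : M' →ₗ[S] M) (g₀ : F' →ₗ[S] F)
    (h : F →ₗ[S] M) (k : F' →ₗ[S] M')
    (hf : ∀ m, f₀ (d m) = d' (f₁ m)) (hg : ∀ m, g₀ (d' m) = d (g₁ m))
    (hh₁ : ∀ m, g₁ (f₁ m) - m = h (d m)) (hh₀ : ∀ x, g₀ (f₀ x) - x = d (h x))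
    (hk₁ : ∀ m, f₁ (g₁ m) - m = k (d' m)) (hk₀ : ∀ x, f₀ (g₀ x) - x = d' (k x)) :
    Nonempty ((M × F') ≃ₗ[S] (F × M')) := by
  let i : M →ₗ[S] F × M' := d.prod f₁
  let p : F × M' →ₗ[S] F' := f₀.coprod (-d')
  let r : F × M' →ₗ[S] M := (-h).coprod g₁
  let s : F' →ₗ[S] F × M' := g₀.prod k
  have hpi : ∀ m, p (i m) = 0 := fun m => by simp [p, i, hf]
  have hri : ∀ m, r (i m) = m := fun m => by
    have := hh₁ m
    simp only [r, i, LinearMap.prod_apply, LinearMap.coprod_apply,
      LinearMap.neg_apply, Function.prod_apply]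
    rw [← this]; abel
  have hps : ∀ z, p (s z) = z := fun z => by
    have := hk₀ z
    simp only [p, s, LinearMap.prod_apply, LinearMap.coprod_apply, LinearMap.neg_apply, Function.prod_apply]
    rw [← this]; abel
  have hker : ∀ e, p e = 0 → e ∈ LinearMap.range i := by
    rintro ⟨x, y⟩ he
    simp only [p, LinearMap.coprod_apply, LinearMap.neg_apply, add_neg_eq_zero] at he
    -- first correct the `F`-coordinate
    let m := g₁ y - h x
    have hdm : d m = x := by
      simp only [m, map_sub, ← hg, ← he, ← hh₀]
      abel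
    have hv : d' (y - f₁ m) = 0 := by
      rw [map_sub, ← hf, hdm, he, sub_self]
    refine ⟨m + g₁ (y - f₁ m), ?_⟩
    have h1 : d (g₁ (y - f₁ m)) = 0 := by rw [← hg, hv, map_zero]
    have h2 : f₁ (g₁ (y - f₁ m)) = y - f₁ m := by
      rw [← sub_eq_zero, hk₁, hv, map_zero]
    ext
    · simp only [i, LinearMap.prod_apply, Function.prod_apply, map_add d, hdm, h1, add_zero]
    · simp only [i, LinearMap.prod_apply, Function.prod_apply, map_add f₁, h2, add_sub_cancel]
  refine ⟨(LinearEquiv.ofBijective (r.prod p) ⟨?_, ?_⟩).symm⟩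
  · rw [injective_iff_map_eq_zero]
    intro e he
    simp only [LinearMap.prod_apply, Function.prod_apply, Prod.mk_eq_zero] at he
    obtain ⟨m, rfl⟩ := hker e he.2
    rw [hri] at he
    rw [he.1, map_zero]
  · rintro ⟨m, z⟩
    refine ⟨i m + (s z - i (r (s z))), ?_⟩
    simp only [LinearMap.prod_apply, Function.prod_apply, map_add, map_sub, hpi, hps, hri]
    simp

end complexes

variable {R : Type u} {S : Type v} [CommRing R] [CommRing S] [Algebra R S]

theorem nonempty_equiv_of_hom {P Q : Extension.{w} R S} (f : P.Hom Q) (g : Q.Hom P) :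
    Nonempty ((P.Cotangent × Q.CotangentSpace) ≃ₗ[S] (P.CotangentSpace × Q.Cotangent)) := by
  refine nonempty_equiv_of_homotopyEquiv P.cotangentComplex Q.cotangentComplex
    (Extension.Cotangent.map f) (Extension.CotangentSpace.map f)
    (Extension.Cotangent.map g) (Extension.CotangentSpace.map g)
    ((g.comp f).sub (.id P)) ((f.comp g).sub (.id Q))
    (fun m => Extension.CotangentSpace.map_cotangentComplex f m)
    (fun m => Extension.CotangentSpace.map_cotangentComplex g m) ?_ ?_ ?_ ?_
  · intro m
    have := congr($(Extension.Cotangent.map_sub_map (g.comp f) (.id P)) m)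
    simpa [Extension.Cotangent.map_comp, Extension.Cotangent.map_id] using this
  · intro x
    have := congr($(Extension.CotangentSpace.map_sub_map (g.comp f) (.id P)) x)
    simpa [Extension.CotangentSpace.map_comp, Extension.CotangentSpace.map_id] using this
  · intro m
    have := congr($(Extension.Cotangent.map_sub_map (f.comp g) (.id Q)) m)
    simpa [Extension.Cotangent.map_comp, Extension.Cotangent.map_id] using this
  · intro x
    have := congr($(Extension.CotangentSpace.map_sub_map (f.comp g) (.id Q)) x)
    simpa [Extension.CotangentSpace.map_comp, Extension.CotangentSpace.map_id] using this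

/-- Schanuel for formally smooth extensions of the same algebra. -/
theorem nonempty_equiv_of_formallySmooth (P Q : Extension.{w} R S)
    [FormallySmooth R P.Ring] [FormallySmooth R Q.Ring] :
    Nonempty ((P.Cotangent × Q.CotangentSpace) ≃ₗ[S] (P.CotangentSpace × Q.Cotangent)) := by
  obtain ⟨e⟩ := nonempty_equiv_of_hom (P.homInfinitesimal Q) (Q.homInfinitesimal P)
  exact ⟨(((LinearEquiv.ofBijective _ (Extension.Cotangent.map_toInfinitesimal_bijective P)).prodCongr
      (LinearEquiv.ofBijective _ (Extension.CotangentSpace.map_toInfinitesimal_bijective Q))).trans e).trans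
    (((LinearEquiv.ofBijective _ (Extension.CotangentSpace.map_toInfinitesimal_bijective P)).prodCongr
      (LinearEquiv.ofBijective _ (Extension.Cotangent.map_toInfinitesimal_bijective Q))).symm)⟩

end Groth.Agent.CotLib
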